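import Groth.Agent.S1616
import Groth.Prelude.Def_RelProj

/-! H-projective morphisms are stable under base change and composition. -/

set_option autoImplicit false
set_option backward.isDefEq.respectTransparency false
set_option backward.isDefEq.respectTransparency.types false
set_option linter.style.haveILetI false

universe u

open CategoryTheory CategoryTheory.Limits AlgebraicGeometry

noncomputable section

namespace Groth.Agent.LimitsH94.Proj

/-- Base change of projective space. -/
def pnMap (n : ℕ) {S' S : Scheme.{u}} (g : S' ⟶ S) : CohB1.ProjSpaceOver n S' ⟶ CohB1.ProjSpaceOver n S :=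
  pullback.lift (pullback.fst _ _) (pullback.snd _ _ ≫ g) (specULiftZIsTerminal.hom_ext _ _)

theorem isPullback_pnMap (n : ℕ) {S' S : Scheme.{u}} (g : S' ⟶ S) :
    IsPullback (pnMap n g) (CohB1.ProjSpaceOver.toBase n S') (CohB1.ProjSpaceOver.toBase n S) g := by
  refine IsPullback.of_right ?_ (pullback.lift_snd _ _ _)
    (IsPullback.of_hasPullback (CohB1.ProjSpace.toSpec n (ULift.{u} ℤ)) (specULiftZIsTerminal.from S))
  rw [show pnMap n g ≫ pullback.fst _ _ = pullback.fst _ _ from pullback.lift_fst _ _ _,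
    specULiftZIsTerminal.hom_ext (g ≫ specULiftZIsTerminal.from S) (specULiftZIsTerminal.from S')]
  exact IsPullback.of_hasPullback _ _

theorem isHProjective_baseChange {X S S' : Scheme.{u}} {f : X ⟶ S} (hf : RelProj.IsHProjective f) (g : S' ⟶ S) :
    RelProj.IsHProjective (pullback.snd f g) := by
  obtain ⟨n, i, hi, rfl⟩ := hf
  have sq := isPullback_pnMap n g
  let j : pullback (i ≫ CohB1.ProjSpaceOver.toBase n S) g ⟶ CohB1.ProjSpaceOver n S' :=
    sq.lift (pullback.fst _ _ ≫ i) (pullback.snd _ _) (by rw [Category.assoc, pullback.condition])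
  refine ⟨n, j, ?_, sq.lift_snd _ _ _⟩
  have h : IsPullback (pullback.fst (i ≫ CohB1.ProjSpaceOver.toBase n S) g) j i (pnMap n g) := by
    refine IsPullback.of_bot ?_ (sq.lift_fst _ _ _).symm sq
    rw [show j ≫ CohB1.ProjSpaceOver.toBase n S' = pullback.snd _ _ from sq.lift_snd _ _ _]
    exact IsPullback.of_hasPullback _ _
  exact MorphismProperty.of_isPullback (P := @IsClosedImmersion) h hi

theorem isHProjective_comp {X Y Z : Scheme.{u}} {f : X ⟶ Y} {g : Y ⟶ Z} (hf : RelProj.IsHProjective f)
    (hg : RelProj.IsHProjective g) : RelProj.IsHProjective (f ≫ g) := by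
  obtain ⟨m, i, hi, rfl⟩ := hf
  obtain ⟨n, j, hj, rfl⟩ := hg
  let pm := CohB1.ProjSpaceOver.toBase m Z
  let pn := CohB1.ProjSpaceOver.toBase n Z
  let k : CohB1.ProjSpaceOver m Y ⟶ pullback pm pn :=
    pullback.lift (pnMap m (j ≫ pn)) (CohB1.ProjSpaceOver.toBase m Y ≫ j) (by
      rw [Category.assoc]; exact (isPullback_pnMap m (j ≫ pn)).w)
  haveI : IsClosedImmersion k := by
    have h : IsPullback (CohB1.ProjSpaceOver.toBase m Y) k j (pullback.snd pm pn) := by
      refine IsPullback.flip (IsPullback.of_right ?_ (pullback.lift_snd _ _ _) (IsPullback.of_hasPullback pm pn))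
      rw [show k ≫ pullback.fst pm pn = pnMap m (j ≫ pn) from pullback.lift_fst _ _ _]
      exact isPullback_pnMap m (j ≫ pn)
    exact MorphismProperty.of_isPullback (P := @IsClosedImmersion) h hj
  obtain ⟨σ, hσ, hσs⟩ := Groth.Agent.S1616.result Z m n
  refine ⟨_, i ≫ k ≫ σ, inferInstance, ?_⟩
  rw [Category.assoc, Category.assoc, hσs, pullback.lift_fst_assoc, (isPullback_pnMap m (j ≫ pn)).w, Category.assoc]

theorem isHProjective_iso_comp {X X' S : Scheme.{u}} (e : X' ≅ X) {f : X ⟶ S} (hf : RelProj.IsHProjective f) :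
    RelProj.IsHProjective (e.hom ≫ f) := by
  obtain ⟨n, i, hi, rfl⟩ := hf
  exact ⟨n, e.hom ≫ i, inferInstance, Category.assoc _ _ _⟩

theorem isHProjective_of_isPullback {X X' S S' : Scheme.{u}} {q : X' ⟶ X} {f' : X' ⟶ S'} {f : X ⟶ S}
    {g : S' ⟶ S} (h : IsPullback q f' f g) (hf : RelProj.IsHProjective f) : RelProj.IsHProjective f' := by
  rw [← h.isoPullback_hom_snd]
  exact isHProjective_iso_comp _ (isHProjective_baseChange hf g)

theorem isPullback_restrict_of_le {X S : Scheme.{u}} (f : X ⟶ S) {V U : S.Opens} (h : V ≤ U) :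
    IsPullback (X.homOfLE (f.preimage_mono h)) (f ∣_ V) (f ∣_ U) (S.homOfLE h) := by
  refine IsPullback.of_right ?_ ?_ (isPullback_morphismRestrict f U).flip
  · rw [Scheme.homOfLE_ι, Scheme.homOfLE_ι]
    exact (isPullback_morphismRestrict f V).flip
  · rw [← cancel_mono U.ι, Category.assoc, morphismRestrict_ι, Scheme.homOfLE_ι_assoc, Category.assoc,
      Scheme.homOfLE_ι, morphismRestrict_ι]

end Groth.Agent.LimitsH94.Proj
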