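import Groth.Agent.Chow34.Proj.Poly
import Groth.Agent.RelTildeX.Props
import Groth.Agent.LimitsH94.Proj.HPBasic

/-! A projective morphism to an affine scheme is H-projective. -/

set_option autoImplicit false
set_option backward.isDefEq.respectTransparency false
set_option backward.isDefEq.respectTransparency.types false
set_option linter.style.haveILetI false

universe u

open SetLike DirectSum AlgebraicGeometry HomogeneousLocalization CategoryTheory CategoryTheory.Limits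
open TopologicalSpace Opposite
open scoped HomogeneousIdeal
open Groth.Agent.KRRLib

noncomputable section

namespace Groth.Agent.LimitsH94.Proj

variable {A : Type u} [CommRing A] (𝒜 : ℕ → AddSubgroup A) [GradedRing 𝒜] {R : Type u} [CommRing R] {n : ℕ}

/-- The graded map from a polynomial ring. -/
def polyTo (c : R →+* A) (hc : ∀ r, c r ∈ 𝒜 0) (t : Fin (n + 1) → A) (ht : ∀ i, t i ∈ 𝒜 1) :
    CohB1.polyGrading n R →+*ᵍ 𝒜 :=
  { MvPolynomial.eval₂Hom c t with
    map_mem := fun {d x} hx => by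
      show MvPolynomial.eval₂Hom c t x ∈ 𝒜 d
      rw [MvPolynomial.coe_eval₂Hom, MvPolynomial.eval₂_eq']
      refine sum_mem fun e he => ?_
      have h := SetLike.mul_mem_graded (A := 𝒜) (hc (MvPolynomial.coeff e x))
        (SetLike.prod_pow_mem_graded 𝒜 (fun _ => 1) (F := (Finset.univ : Finset (Fin (n + 1)))) (g := t) e (fun k _ => ht k))
      have hd : ∑ k : Fin (n + 1), e k • 1 = d := by
        have := hx (MvPolynomial.mem_support_iff.1 he)
        rw [← this, Finsupp.weight_apply, Finsupp.sum_fintype] <;> simp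
      rw [zero_add, hd] at h
      exact h }

theorem polyTo_apply (c : R →+* A) (hc : ∀ r, c r ∈ 𝒜 0) (t : Fin (n + 1) → A) (ht : ∀ i, t i ∈ 𝒜 1)
    (x : MvPolynomial (Fin (n + 1)) R) : polyTo 𝒜 c hc t ht x = MvPolynomial.eval₂Hom c t x := rfl

/-- The map is surjective in positive degrees. -/
theorem surjOn_polyTo (c : R →+* A) (hc : ∀ r, c r ∈ 𝒜 0) (t : Fin (n + 1) → A) (ht : ∀ i, t i ∈ 𝒜 1)
    (h1 : ∀ x ∈ 𝒜 1, ∃ a : Fin (n + 1) → R, x = ∑ i, c (a i) * t i)
    (hirr : (HomogeneousIdeal.irrelevant 𝒜).toIdeal ≤ Ideal.span (Set.range t)) :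
    ∀ (m : ℕ), ∀ b ∈ 𝒜 (m + 1), ∃ a ∈ CohB1.polyGrading n R (m + 1), polyTo 𝒜 c hc t ht a = b := by
  classical
  intro m
  induction m with
  | zero =>
    intro b hb
    obtain ⟨a, rfl⟩ := h1 b hb
    refine ⟨∑ i, MvPolynomial.C (a i) * MvPolynomial.X i, sum_mem fun i _ => ?_, ?_⟩
    · simpa using (MvPolynomial.isHomogeneous_C _ (a i)).mul (MvPolynomial.isHomogeneous_X R i)
    · simp [polyTo_apply]
  | succ m ih =>
    intro b hb
    have hbspan : b ∈ Ideal.span (Set.range t) :=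
      hirr (HomogeneousIdeal.mem_irrelevant_of_mem _ (Nat.succ_pos _) hb)
    obtain ⟨a, ha⟩ := Ideal.mem_span_range_iff_exists_fun.1 hbspan
    choose p hp hpa using fun i => ih (DirectSum.decompose 𝒜 (a i) (m + 1) : A) (SetLike.coe_mem _)
    refine ⟨∑ i, p i * MvPolynomial.X i, sum_mem fun i _ => (hp i).mul (MvPolynomial.isHomogeneous_X R i), ?_⟩
    have e : b = (DirectSum.decompose 𝒜 (∑ i, a i * t i) (m + 1 + 1) : A) := by
      rw [ha, DirectSum.decompose_of_mem_same 𝒜 hb]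
    rw [e, DirectSum.decompose_sum, DirectSum.sum_apply, AddSubmonoidClass.coe_finsetSum, map_sum]
    refine Finset.sum_congr rfl fun i _ => ?_
    rw [DirectSum.coe_decompose_mul_of_right_mem_of_le 𝒜 (ht i) (Nat.le_add_left 1 (m + 1)),
      Nat.add_sub_cancel, map_mul, hpa]
    simp [polyTo_apply]

/-- A graded ring generated by finitely many elements of degree one embeds in projective space. -/
theorem exists_closedImmersion (c : R →+* A) (hc : ∀ r, c r ∈ 𝒜 0) (t : Fin (n + 1) → A) (ht : ∀ i, t i ∈ 𝒜 1)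
    (h1 : ∀ x ∈ 𝒜 1, ∃ a : Fin (n + 1) → R, x = ∑ i, c (a i) * t i)
    (hirr : (HomogeneousIdeal.irrelevant 𝒜).toIdeal ≤ Ideal.span (Set.range t)) :
    ∃ g : Proj 𝒜 ⟶ CohB1.ProjSpace n R, IsClosedImmersion g ∧
      g ≫ CohB1.ProjSpace.toSpec n R =
        Proj.toSpecZero 𝒜 ≫ Spec.map (CommRingCat.ofHom (c.codRestrict (SetLike.GradeZero.subsemiring 𝒜) hc)) := by
  let ψ := polyTo 𝒜 c hc t ht
  have hψ : 𝒜₊ ≤ ((CohB1.polyGrading n R)₊).map ψ := by
    rw [HomogeneousIdeal.irrelevant_le]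
    intro d hd b hb
    obtain ⟨m, rfl⟩ := Nat.exists_eq_add_of_le' (Nat.one_le_iff_ne_zero.2 hd.ne')
    obtain ⟨a, ha, rfl⟩ := surjOn_polyTo 𝒜 c hc t ht h1 hirr m b hb
    exact Ideal.mem_map_of_mem _ (HomogeneousIdeal.mem_irrelevant_of_mem _ hd ha)
  refine ⟨AlgebraicGeometry.Proj.map ψ hψ, Proj16.map_of_away ψ hψ fun d s hd hs =>
    IsClosedImmersion.spec_of_surjective _ ?_, ?_⟩
  · intro x
    obtain ⟨k, b, hb, rfl⟩ := x.mk_surjective 𝒜 (ψ.2 hs)
    rw [Proj16.awayMk_succ]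
    obtain ⟨m, hm⟩ := Nat.exists_eq_add_of_le' (show 1 ≤ (k + 1) • d from Nat.mul_pos (Nat.succ_pos k) hd)
    obtain ⟨a, ha, hab⟩ := surjOn_polyTo 𝒜 c hc t ht h1 hirr m (ψ s * b) (by
      rw [← hm]
      simpa [Nat.succ_mul, add_comm] using SetLike.mul_mem_graded (ψ.2 hs) hb)
    rw [← hm] at ha
    refine ⟨Away.mk (CohB1.polyGrading n R) hs (k + 1) a ha, ?_⟩
    show Away.map ψ s _ = _
    rw [Away.map_mk]
    congr 1
  · refine (Proj.mapAffineOpenCover _ hψ).openCover.hom_ext _ _ ?_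
    suffices h : ∀ (d : ℕ) (hd : 0 < d) (a : MvPolynomial (Fin (n + 1)) R) (ha : a ∈ CohB1.polyGrading n R d),
        Proj.awayι 𝒜 (ψ a) (ψ.map_mem ha) hd ≫ AlgebraicGeometry.Proj.map ψ hψ ≫ CohB1.ProjSpace.toSpec n R =
        Proj.awayι 𝒜 (ψ a) (ψ.map_mem ha) hd ≫ Proj.toSpecZero 𝒜 ≫
          Spec.map (CommRingCat.ofHom (c.codRestrict (SetLike.GradeZero.subsemiring 𝒜) hc)) from
      fun s ↦ h s.1 s.1.2 s.2 s.2.2
    intro d hd a ha
    rw [Proj.awayι_comp_map_assoc _ _ hd a ha, CohB1.ProjSpace.toSpec, Proj.awayι_toSpecZero_assoc,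
      Proj.awayι_toSpecZero_assoc]
    simp only [← Spec.map_comp]
    congr 1
    ext r
    simp only [CommRingCat.hom_comp, CommRingCat.hom_ofHom, RingHom.comp_apply,
      HomogeneousLocalization.Away.map, HomogeneousLocalization.fromZeroRingHom, RingHom.coe_mk,
      MonoidHom.coe_mk, OneHom.coe_mk, HomogeneousLocalization.map_mk, HomogeneousLocalization.val_mk]
    exact congr_arg₂ Localization.mk ((polyTo_apply 𝒜 c hc t ht _).trans (MvPolynomial.eval₂Hom_C c t r))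
      (Subtype.ext (map_one _))

/-- A projective morphism is H-projective over every affine open. -/
theorem isHProjective_restrict_of_isProjective {X S : Scheme.{u}} (f : X ⟶ S) (hf : RelProj.IsProjective f)
    (U : S.Opens) (hU : IsAffineOpen U) : RelProj.IsHProjective (f ∣_ U) := by
  classical
  obtain ⟨𝒮, P, p, chart, e, hgen, hft, hP, rfl⟩ := hf
  haveI : IsAffine (U : Scheme.{u}) := hU
  let R := Γ(S, U)
  let c : R →+* 𝒮.presheaf.obj (op U) := (𝒮.str.app (op U)).hom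
  obtain ⟨T, hT, hgenT⟩ := hft U hU
  obtain ⟨n, ⟨eT⟩⟩ : ∃ n, Nonempty (Fin (n + 1) ≃ Option T) := by
    obtain ⟨n, hn⟩ := Nat.exists_eq_add_one.2 (Fintype.card_pos (α := Option T))
    exact ⟨n, ⟨(finCongr hn.symm).trans (Fintype.equivFin _).symm⟩⟩
  let t : Fin (n + 1) → 𝒮.presheaf.obj (op U) := fun l => (eT l).elim 0 fun k => k.1
  have ht : ∀ l, t l ∈ 𝒮.deg U hU 1 := fun l => by
    rcases h : eT l with _ | k
    · simp only [t, h]; exact zero_mem _
    · simp only [t, h]; exact hT k.2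
  have hts : ∀ k : T, (k : 𝒮.presheaf.obj (op U)) = t (eT.symm (some k)) := fun k => by simp [t]
  have h1 : ∀ x ∈ 𝒮.deg U hU 1, ∃ a : Fin (n + 1) → R, x = ∑ l, c (a l) * t l := fun x hx => by
    obtain ⟨a, rfl⟩ := hgenT x hx
    refine ⟨fun l => (eT l).elim 0 fun k => a k.1, ?_⟩
    rw [← eT.symm.sum_comp, Fintype.sum_option, ← Finset.sum_coe_sort T]
    simp [t, c]
    exact Finset.sum_congr rfl fun _ _ => rfl
  have hirr : (HomogeneousIdeal.irrelevant (𝒮.deg U hU)).toIdeal ≤ Ideal.span (Set.range t) := by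
    rw [RelTildeX.irrelevant_eq_span_deg_one hgen U hU, Ideal.span_le]
    intro x hx
    obtain ⟨a, rfl⟩ := h1 x hx
    exact Ideal.sum_mem _ fun l _ => Ideal.mul_mem_left _ _ (Ideal.subset_span ⟨l, rfl⟩)
  obtain ⟨g, hg, hgs⟩ := exists_closedImmersion (𝒮.deg U hU) c (fun r => 𝒮.str_mem U hU r) t ht h1 hirr
  have sq : IsPullback (PnBC.bcHom n (SegreX.z0 R)) (CohB1.ProjSpace.toSpec n R ≫ hU.isoSpec.inv)
      (CohB1.ProjSpace.toSpec n (ULift.{u} ℤ)) (specULiftZIsTerminal.from (U : Scheme.{u})) :=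
    (PnBC.isPullback_affine n R).of_iso (Iso.refl _) (Iso.refl _) hU.isoSpec.symm (Iso.refl _)
      (by simp) (by simp) (by simp) (specULiftZIsTerminal.hom_ext _ _)
  let α : CohB1.ProjSpace n R ≅ CohB1.ProjSpaceOver n (U : Scheme.{u}) := sq.isoPullback
  have hα : α.hom ≫ CohB1.ProjSpaceOver.toBase n (U : Scheme.{u}) = CohB1.ProjSpace.toSpec n R ≫ hU.isoSpec.inv :=
    sq.isoPullback_hom_snd
  haveI : IsClosedImmersion g := hg
  rw [morphismRestrict_comp]
  refine ⟨n, (e.hom ∣_ (p ⁻¹ᵁ U)) ≫ (chart U hU).hom ≫ g ≫ α.hom, inferInstance, ?_⟩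
  rw [← cancel_mono U.ι]
  simp only [Category.assoc, morphismRestrict_ι]
  rw [reassoc_of% hα, reassoc_of% hgs]
  congr 1
  exact (congrArg (fun m => (chart U hU).hom ≫ Proj.toSpecZero _ ≫ Spec.map _ ≫ m)
    (IsAffineOpen.isoSpec_inv_ι hU)).trans (hP.chart_over U hU)

/-- A projective morphism to an affine scheme is H-projective. -/
theorem isHProjective_of_isProjective {X S : Scheme.{u}} [IsAffine S] (f : X ⟶ S) (hf : RelProj.IsProjective f) :
    RelProj.IsHProjective f := by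
  haveI : IsIso (⊤ : S.Opens).ι := by rw [show (⊤ : S.Opens).ι = S.topIso.hom from rfl]; infer_instance
  haveI : IsIso (f ⁻¹ᵁ ⊤).ι := by rw [show (f ⁻¹ᵁ (⊤ : S.Opens)).ι = X.topIso.hom from rfl]; infer_instance
  exact isHProjective_of_isPullback (q := inv (f ⁻¹ᵁ ⊤).ι) (g := inv (⊤ : S.Opens).ι)
    (IsPullback.of_horiz_isIso ⟨by rw [IsIso.inv_comp_eq, ← Category.assoc, IsIso.eq_comp_inv, morphismRestrict_ι]⟩)
    (isHProjective_restrict_of_isProjective f hf ⊤ (isAffineOpen_top S))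

/-- Locally projective and locally H-projective morphisms agree. -/
theorem isLocallyProjective_iff {X S : Scheme.{u}} (f : X ⟶ S) :
    RelProj.IsLocallyProjective f ↔ ∀ s : S, ∃ U : S.Opens, s ∈ U ∧ RelProj.IsHProjective (f ∣_ U) := by
  constructor
  · intro hf s
    obtain ⟨U, hsU, hU⟩ := hf s
    obtain ⟨V, hV, hsV, hVU⟩ := exists_isAffineOpen_mem_and_subset (x := s) (U := U) hsU
    have h := isHProjective_restrict_of_isProjective (f ∣_ U) hU (U.ι ⁻¹ᵁ V)
      (hV.preimage_of_isOpenImmersion U.ι (by rw [Scheme.Opens.opensRange_ι]; exact hVU))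
    let α := (morphismRestrictRestrict f U (U.ι ⁻¹ᵁ V)).symm
    refine ⟨U.ι ''ᵁ (U.ι ⁻¹ᵁ V), ⟨⟨s, hsU⟩, hsV, rfl⟩, ?_⟩
    haveI : IsIso α.hom.left := inferInstanceAs (IsIso (Arrow.leftFunc.map α.hom))
    haveI : IsIso α.hom.right := inferInstanceAs (IsIso (Arrow.rightFunc.map α.hom))
    exact isHProjective_of_isPullback (q := α.hom.left) (g := α.hom.right) (IsPullback.of_horiz_isIso ⟨α.hom.w⟩) h
  · intro hf s
    obtain ⟨U, hsU, hU⟩ := hf s
    exact ⟨U, hsU, Chow34.isProjective_of_isHProjective _ hU⟩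

end Groth.Agent.LimitsH94.Proj
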